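import Groth.Agent.ProjHilbLib.Chi
import Groth.Agent.CIGenLib.Hyp
import Groth.Agent.PlaneCurveLib.Coh

/-!
# A closed subscheme is determined by the high pieces of its saturated ideal
-/

set_option autoImplicit false
set_option backward.isDefEq.respectTransparency false
set_option backward.isDefEq.respectTransparency.types false
universe u

open CategoryTheory CategoryTheory.Limits AlgebraicGeometry TopologicalSpace

noncomputable section

namespace ProjHilbLib

variable {k : Type u} [Field k] {n : ℕ}

theorem fr_congr_deg {l l' : ℕ} {a a' : MvPolynomial (Fin (n + 1)) k} (hl : l = l') (e : a = a')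
    (i : ULift.{u} (Fin (n + 1))) (ha : a ∈ CohB1.polyGrading n k l) (ha' : a' ∈ CohB1.polyGrading n k l') :
    ProjClosedLib.fr (CohB1.polyGrading n k) (varX_mem i) ha =
      ProjClosedLib.fr (CohB1.polyGrading n k) (varX_mem i) ha' := by
  subst hl; subst e; rfl

open scoped Classical in
theorem exists_homogeneous_comb {ι : Type*} [Fintype ι] {a : ι → ℕ} (G : ∀ j, LefPen.Form n k (a j))
    {t : ℕ} {x : MvPolynomial (Fin (n + 1)) k} (hx : x ∈ CohB1.polyGrading n k t)
    (h : x ∈ Ideal.span (Set.range fun j => (G j : MvPolynomial (Fin (n + 1)) k))) :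
    ∃ c : ι → MvPolynomial (Fin (n + 1)) k, (∀ j, a j ≤ t → c j ∈ CohB1.polyGrading n k (t - a j)) ∧
      (∀ j, ¬ a j ≤ t → c j = 0) ∧ x = ∑ j, c j * (G j : MvPolynomial (Fin (n + 1)) k) := by
  obtain ⟨c, hc⟩ := Ideal.mem_span_range_iff_exists_fun.mp h
  refine ⟨fun j => if a j ≤ t then (DirectSum.decompose (CohB1.polyGrading n k) (c j) (t - a j) :
      MvPolynomial (Fin (n + 1)) k) else 0, fun j hj => ?_, fun j hj => if_neg hj, ?_⟩
  · simp only [if_pos hj]
    exact SetLike.coe_mem _
  · have h1 : x = (DirectSum.decompose (CohB1.polyGrading n k) x t : MvPolynomial (Fin (n + 1)) k) :=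
      (DirectSum.decompose_of_mem_same (CohB1.polyGrading n k) hx).symm
    rw [h1, ← hc, DirectSum.decompose_sum, DFinsupp.finsetSum_apply, Submodule.coe_sum]
    refine Finset.sum_congr rfl fun j _ => ?_
    by_cases hj : a j ≤ t
    · simp only [if_pos hj]
      exact DirectSum.coe_decompose_mul_of_right_mem_of_le _ (G j).2 hj
    · simp only [if_neg hj, zero_mul]
      exact DirectSum.coe_decompose_mul_of_right_mem_of_not_le _ (G j).2 hj

/-- forms cutting out the high pieces of the saturated ideal cut out the subscheme -/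
theorem ideal_chart_eq (I : (Proj (CohB1.polyGrading n k)).IdealSheafData) {ι : Type*} [Fintype ι] {a : ι → ℕ}
    (G : ∀ j, LefPen.Form n k (a j)) {N : ℕ}
    (h : ∀ t, N ≤ t → Submodule.restrictScalars k (satId I) ⊓ CohB1.polyGrading n k t =
      Submodule.restrictScalars k (Ideal.span (Set.range fun j => (G j : MvPolynomial (Fin (n + 1)) k))) ⊓
        CohB1.polyGrading n k t)
    (i : ULift.{u} (Fin (n + 1))) :
    I.ideal (chartX i) =
      ⨆ j, Ideal.span {ProjClosedLib.fr (CohB1.polyGrading n k) (varX_mem i) (G j).2} := by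
  classical
  refine le_antisymm (fun y hy => ?_) (iSup_le fun j => (Ideal.span_singleton_le_iff_mem _).mpr ?_)
  · obtain ⟨l, b, hb, rfl⟩ := ProjClosedLib.fr_surjective (CohB1.polyGrading n k) (varX_mem i) y
    obtain ⟨M, hM⟩ := exists_pow_mul_mem I i hb hy
    have hb' : varX k n i ^ (N + M) * b ∈ satId I := by
      rw [pow_add, mul_assoc]; exact Ideal.mul_mem_left _ _ hM
    have hdeg := pow_mul_mem_piece hb (N + M) i
    have hmem : varX k n i ^ (N + M) * b ∈ Submodule.restrictScalars k (satId I) ⊓
        CohB1.polyGrading n k (N + M + l) := ⟨hb', hdeg⟩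
    rw [h _ (by omega)] at hmem
    obtain ⟨c, hc, hc0, hsum⟩ := exists_homogeneous_comb G hdeg hmem.1
    rw [← fr_pow_mul hb (N + M) i hdeg]
    let T := fun j => c j * (G j : MvPolynomial (Fin (n + 1)) k)
    have hT : ∀ j, T j ∈ CohB1.polyGrading n k (N + M + l) := fun j => by
      by_cases hj : a j ≤ N + M + l
      · exact Nat.sub_add_cancel hj ▸ SetLike.mul_mem_graded (hc j hj) (G j).2
      · simp only [T, hc0 j hj, zero_mul]; exact zero_mem _
    have hfrsum : ∀ s : Finset ι, ProjClosedLib.fr (CohB1.polyGrading n k) (varX_mem i)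
        (Submodule.sum_mem (CohB1.polyGrading n k (N + M + l)) fun j (_ : j ∈ s) => hT j) ∈
          ⨆ j, Ideal.span {ProjClosedLib.fr (CohB1.polyGrading n k) (varX_mem i) (G j).2} := by
      intro s
      induction s using Finset.induction_on with
      | empty =>
        rw [fr_congr_deg rfl (Finset.sum_empty (f := T)) i (Submodule.sum_mem _ fun j _ => hT j) (zero_mem _), ProjClosedLib.fr_zero]
        exact zero_mem _
      | insert j s hjs ih =>
        rw [fr_congr_deg rfl (Finset.sum_insert hjs) i (Submodule.sum_mem _ fun j _ => hT j)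
          (add_mem (hT j) (Submodule.sum_mem _ fun j _ => hT j)),
          ProjClosedLib.fr_add (CohB1.polyGrading n k) (varX_mem i) (hT j) (Submodule.sum_mem _ fun j _ => hT j)]
        refine add_mem ?_ ih
        refine le_iSup (fun j => Ideal.span {ProjClosedLib.fr (CohB1.polyGrading n k) (varX_mem i) (G j).2}) j ?_
        by_cases hj : a j ≤ N + M + l
        · rw [fr_congr_deg (Nat.sub_add_cancel hj).symm rfl i (hT j) (SetLike.mul_mem_graded (hc j hj) (G j).2),
            ProjClosedLib.fr_mul (CohB1.polyGrading n k) (varX_mem i) (hc j hj) (G j).2]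
          exact Ideal.mul_mem_left _ _ (Ideal.mem_span_singleton_self _)
        · rw [fr_congr_deg rfl (show T j = 0 by simp only [T, hc0 j hj, zero_mul]) i (hT j) (zero_mem _),
            ProjClosedLib.fr_zero]
          exact zero_mem _
    rw [fr_congr_deg rfl hsum i hdeg (Submodule.sum_mem _ fun j _ => hT j)]
    exact hfrsum Finset.univ
  · have hdeg := pow_mul_mem_piece (G j).2 N i
    have hmem : varX k n i ^ N * (G j : MvPolynomial (Fin (n + 1)) k) ∈ Submodule.restrictScalars k
        (Ideal.span (Set.range fun j => (G j : MvPolynomial (Fin (n + 1)) k))) ⊓ CohB1.polyGrading n k (N + a j) :=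
      ⟨Ideal.mul_mem_left _ _ (Ideal.subset_span ⟨j, rfl⟩), hdeg⟩
    rw [← h _ (by omega)] at hmem
    rw [← fr_pow_mul (G j).2 N i hdeg]
    exact (mem_satId_iff I hdeg).mp hmem.1 i

theorem hypIdeal_chartX {d : ℕ} (G : LefPen.Form n k d) (i : ULift.{u} (Fin (n + 1))) :
    (LefPen.hypIdeal G).ideal (chartX i) =
      Ideal.span {ProjClosedLib.fr (CohB1.polyGrading n k) (varX_mem i) G.2} := by
  refine (CIGen.hypIdeal_chart G i.down).trans ?_
  exact congrArg (fun z => Ideal.span {z}) (PlaneCurveLib.fr_eq_deh G i.down).symm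

theorem ext_charts {I J : (Proj (CohB1.polyGrading n k)).IdealSheafData}
    (h : ∀ i, I.ideal (chartX i) = J.ideal (chartX i)) : I = J :=
  Scheme.IdealSheafData.ext_of_iSup_eq_top chartX
    (eq_top_iff.mpr fun x _ => Opens.mem_iSup.mpr (cover_var x)) h

theorem eq_ciIdeal (I : (CohB1.ProjSpace n k).IdealSheafData) {ι : Type} [Fintype ι] {a : ι → ℕ}
    (G : ∀ j, LefPen.Form n k (a j)) {N : ℕ}
    (h : ∀ t, N ≤ t → Submodule.restrictScalars k (satId (n := n) I) ⊓ CohB1.polyGrading n k t =
      Submodule.restrictScalars k (Ideal.span (Set.range fun j => (G j : MvPolynomial (Fin (n + 1)) k))) ⊓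
        CohB1.polyGrading n k t) :
    I = LefPen.ciIdeal G := by
  refine ext_charts (n := n) fun i => (ideal_chart_eq (n := n) I G h i).trans ?_
  rw [LefPen.ciIdeal, Scheme.IdealSheafData.ideal_iSup, iSup_apply]
  exact iSup_congr fun j => (hypIdeal_chartX (G j) i).symm

theorem eq_hypIdeal (I : (CohB1.ProjSpace n k).IdealSheafData) {d : ℕ} (G : LefPen.Form n k d) {N : ℕ}
    (h : ∀ t, N ≤ t → Submodule.restrictScalars k (satId (n := n) I) ⊓ CohB1.polyGrading n k t =
      Submodule.restrictScalars k (Ideal.span {(G : MvPolynomial (Fin (n + 1)) k)}) ⊓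
        CohB1.polyGrading n k t) :
    I = LefPen.hypIdeal G := by
  refine ext_charts (n := n) fun i =>
    (ideal_chart_eq (n := n) I (fun _ : Unit => G) (N := N) (fun t ht => ?_) i).trans ?_
  · rw [h t ht, Set.range_const]
  · rw [iSup_const]; exact (hypIdeal_chartX G i).symm

end ProjHilbLib

end
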