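import Groth.Agent.ProjHilbLib.Sat
import Groth.Agent.HilbPolyLib.Twist
import Groth.Agent.ProjDegLib.Criterion
import Groth.Agent.PicPnLib.Twist

/-!
# The Hilbert polynomial of a closed subscheme and its saturated ideal
-/

set_option autoImplicit false
set_option backward.isDefEq.respectTransparency false
set_option backward.isDefEq.respectTransparency.types false
universe u

open CategoryTheory CategoryTheory.Limits AlgebraicGeometry TopologicalSpace Opposite TopCat

noncomputable section

namespace ProjHilbLib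

variable {k : Type u} [Field k] {n : ℕ}

theorem finrank_satGr (I : (Proj (CohB1.polyGrading n k)).IdealSheafData) (t : ℕ) :
    Module.finrank k ↥(satGr I t) =
      Module.finrank k ↥(Submodule.restrictScalars k (satId I) ⊓ CohB1.polyGrading n k t) :=
  LinearEquiv.finrank_eq
    { toFun := fun z => ⟨((z : satId I) : MvPolynomial (Fin (n + 1)) k), (z : satId I).2, z.2⟩
      invFun := fun a => ⟨⟨a.1, a.2.1⟩, a.2.2⟩
      map_add' := fun _ _ => rfl
      map_smul' := fun _ _ => rfl
      left_inv := fun _ => rfl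
      right_inv := fun _ => rfl }

/-- the Euler characteristic of high twists of the quotient -/
theorem euler_quot (I : (Proj (CohB1.polyGrading n k)).IdealSheafData) :
    ∃ N : ℕ, ∀ t : ℕ, N ≤ t → (Curv2.euler k (CohB1.ProjSpace n k)
      (CohB1.tensorMod (ClSub.quotMod I) (Twist.twistProjSpace n k (t : ℤ))) : ℚ) =
        GradedHilbLib.hf (satId I) t := by
  classical
  haveI : IsLocallyNoetherian (CohB1.ProjSpace n k) := ProjCohTwLib.isLocallyNoetherian (CohB1.polyGrading n k)
  haveI : IsLocallyNoetherian (Proj (CohB1.polyGrading n k)) := ProjCohTwLib.isLocallyNoetherian (CohB1.polyGrading n k)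
  haveI : IsProper (CohB1.ProjSpace n k ↘ Spec (CommRingCat.of k)) := ProjDegLib.toSpec_isProper k n
  haveI : Module.Finite (MvPolynomial (Fin (n + 1)) k) (satId I) :=
    Module.Finite.iff_fg.mpr (IsNoetherian.noetherian _)
  obtain ⟨N₁, hN₁⟩ := euler_tilde (k := k) (n := n) (M := satId (n := n) I) (satGr (n := n) I)
  obtain ⟨N₂, hN₂⟩ := euler_tilde (k := k) (n := n) (CohB1.polyGrading n k)
  refine ⟨N₁ + N₂, fun t ht => ?_⟩
  have hL : PicF.IsInvertible (Twist.twistProjSpace n k (t : ℤ)) := PicPnLib.twist_inv n k _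
  have hS := HilbPolyLib.shortExact_tensor hL (CurvLib.idealSeq_shortExact I)
  have hI : Coh.IsCoh (ClSub.idealMod I) := QCohLib.isCoh_kernel (ClSub.toSubscheme I)
    (DevissLib.isCoh_structureModule _) (CurvLib.isCoh_quotMod I).1
  have hadd := CurvLib.euler_add_of_isCoh (k := k) hS (HilbPolyLib.isCoh_tensor hL hI)
    (HilbPolyLib.isCoh_tensor hL (DevissLib.isCoh_structureModule _))
    (HilbPolyLib.isCoh_tensor hL (CurvLib.isCoh_quotMod I))
  obtain ⟨e₁⟩ := nonempty_idealMod_iso I
  obtain ⟨u⟩ := ProjCohTwLib.unit_iso (CohB1.polyGrading n k)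
  have h1 : Curv2.euler k (CohB1.ProjSpace n k)
      (CohB1.tensorMod (Twist.twistProjSpace n k (t : ℤ)) (ClSub.idealMod I)) =
        (Module.finrank k ↥(satGr I t) : ℤ) :=
    (CurvLib.euler_congr (k := k) (X := CohB1.ProjSpace n k) (HilbPolyLib.swapIso _ _ ≪≫
      HilbPolyLib.congrLeft e₁.symm _)).trans (hN₁ t (by omega))
  have h2 : Curv2.euler k (CohB1.ProjSpace n k)
      (CohB1.tensorMod (Twist.twistProjSpace n k (t : ℤ)) (Coh.structureModule (CohB1.ProjSpace n k))) =
        (Module.finrank k ↥(CohB1.polyGrading n k t) : ℤ) :=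
    (CurvLib.euler_congr (k := k) (X := CohB1.ProjSpace n k) (HilbPolyLib.swapIso _ _ ≪≫
      HilbPolyLib.congrLeft (u.symm ≪≫ GrTildeLib.twistIsoTilde (CohB1.polyGrading n k) 0) _)).trans (hN₂ t (by omega))
  have h3 : Curv2.euler k (CohB1.ProjSpace n k)
      (CohB1.tensorMod (ClSub.quotMod I) (Twist.twistProjSpace n k (t : ℤ))) =
      Curv2.euler k (CohB1.ProjSpace n k)
      (CohB1.tensorMod (Twist.twistProjSpace n k (t : ℤ)) (ClSub.quotMod I)) :=
    CurvLib.euler_congr (k := k) (X := CohB1.ProjSpace n k) (HilbPolyLib.swapIso _ _)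
  change Curv2.euler k (CohB1.ProjSpace n k) (CohB1.tensorMod (Twist.twistProjSpace n k (t : ℤ)) (Coh.structureModule (CohB1.ProjSpace n k))) =
    Curv2.euler k (CohB1.ProjSpace n k) (CohB1.tensorMod (Twist.twistProjSpace n k (t : ℤ)) (ClSub.idealMod I)) +
    Curv2.euler k (CohB1.ProjSpace n k) (CohB1.tensorMod (Twist.twistProjSpace n k (t : ℤ)) (ClSub.quotMod I)) at hadd
  rw [h1, h2, ← h3] at hadd
  rw [GradedHilbLib.hf, ← finrank_satGr]
  have e := congrArg (fun z : ℤ => (z : ℚ)) hadd
  push_cast at e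
  linarith

end ProjHilbLib

end
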