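import Groth.Agent.GrAlphaLib.Euler
import Groth.Agent.CurvLib.Euler
import Groth.Agent.GradedHilbLib.HF

/-!
# Euler characteristics of high twists on projective space
-/

set_option autoImplicit false
set_option backward.isDefEq.respectTransparency false
set_option backward.isDefEq.respectTransparency.types false
universe u

open CategoryTheory AlgebraicGeometry Opposite

noncomputable section

namespace ProjHilbLib

variable {k : Type u} [Field k] {n : ℕ}

theorem cover (x : Proj (CohB1.polyGrading n k)) :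
    ∃ g ∈ CohB1.polyGrading n k 1, g ∉ x.asHomogeneousIdeal :=
  GrTildeLib.cover_of_gen (CohB1.polyGrading n k)
    (GrAlphaLib.irrelevant_le_span (CohB1.polyGrading n k) (fun i => (MvPolynomial.X i : MvPolynomial (Fin (n + 1)) k))
      (fun i => MvPolynomial.isHomogeneous_X k i) MvPolynomial.adjoin_range_X) x

variable {M : Type u} [AddCommGroup M] [Module k M] [Module (MvPolynomial (Fin (n + 1)) k) M]
  [IsScalarTower k (MvPolynomial (Fin (n + 1)) k) M]
  (ℳ : ℕ → Submodule k M) [DirectSum.Decomposition ℳ] [SetLike.GradedSMul (CohB1.polyGrading n k) ℳ]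

theorem euler_tilde [Module.Finite (MvPolynomial (Fin (n + 1)) k) M] :
    ∃ N : ℕ, ∀ t : ℕ, N ≤ t → Curv2.euler k (CohB1.ProjSpace n k)
      (CohB1.tensorMod (GrTilde.tilde (CohB1.polyGrading n k) ℳ 0) (Twist.twistProjSpace n k (t : ℤ))) =
        (Module.finrank k ↥(ℳ t) : ℤ) := by
  classical
  have hFT := GrTildeLib.isFT_tilde (𝒜 := CohB1.polyGrading n k) (ℳ := ℳ)
    (IsNoetherian.noetherian _) ⟨0, IsNoetherian.noetherian _⟩
  have hQ := GrTildeLib.isQCoh_tilde (𝒜 := CohB1.polyGrading n k) (ℳ := ℳ) 0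
  obtain ⟨d₀, hd₀⟩ := ProjCohTwLib.serre_vanishing (CohB1.polyGrading n k)
    (GrTilde.tilde (CohB1.polyGrading n k) ℳ 0) ⟨hQ, hFT⟩
  obtain ⟨D, hD⟩ := GrAlphaLib.exists_globalOf_bijective (CohB1.polyGrading n k) ℳ
  refine ⟨D + d₀.toNat, fun t ht => ?_⟩
  obtain ⟨e⟩ := GrTildeLib.twistBy_iso (𝒜 := CohB1.polyGrading n k) (ℳ := ℳ) (p := 0) (n := (t : ℤ))
    (q := (t : ℤ)) (zero_add _) cover
  refine (CurvLib.euler_congr (k := k) (X := CohB1.ProjSpace n k) e).trans ?_
  rw [CurvLib.euler_eq_finrank (k := k) (X := CohB1.ProjSpace n k)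
    (fun j hj => SerreVanLib.subsingleton_HH_of_iso e.symm j (hd₀ t (by omega) j hj))]
  have hb : Function.Bijective (GrAlphaLib.toH0 (CohB1.polyGrading n k) ℳ t) :=
    (DegPullLib.e0 (GrTilde.tilde (CohB1.polyGrading n k) ℳ (t : ℤ))).symm.bijective.comp (hD t (by omega))
  exact congrArg Nat.cast (LinearEquiv.ofBijective (GrAlphaLib.toH0 (CohB1.polyGrading n k) ℳ t) hb).finrank_eq.symm

end ProjHilbLib

end
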