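import Groth.Agent.ProjHilbLib.Linear
import Groth.Agent.HomogFactorLib.Basic
import Groth.Agent.GradedHilbLib.CI

/-!
# An ideal with the Hilbert function of a hypersurface is principal in high degrees
-/

set_option autoImplicit false
universe u

open Filter Polynomial

noncomputable section

namespace ProjHilbLib

variable {k : Type u} [Field k] {n : ℕ}

theorem cpoly_shift (m : ℕ) (c : ℤ) :
    cpoly (m + c) m = (cpoly m m).comp (X - C ((-c : ℤ) : ℚ)) := by
  simp only [cpoly, mul_comp, C_comp, comp_assoc, add_comp, X_comp, Int.cast_add, Int.cast_neg, map_add, map_neg,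
    sub_neg_eq_add]
  congr 2
  ring

theorem isHP_of_piece {J : Ideal (MvPolynomial (Fin (n + 1)) k)} {c : ℤ} {N : ℕ}
    (h : ∀ t, N ≤ t → (Module.finrank k ↥(Submodule.restrictScalars k J ⊓ CohB1.polyGrading n k t) : ℚ) =
      (cpoly (n + c) n).eval (t : ℚ)) :
    GradedHilbLib.IsHP J (cpoly n n - cpoly (n + c) n) :=
  eventually_atTop.2 ⟨N, fun t ht => by
    rw [GradedHilbLib.hf, h t ht, eval_sub, cpoly_eval_nat, finrank_piece]⟩

theorem hilb_degree_le_of_no_common_factor {J : Ideal (MvPolynomial (Fin (n + 1)) k)}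
    (hJ : J.IsHomogeneous (CohB1.polyGrading n k)) (hbot : J ≠ ⊥)
    (hfac : ∀ (e : ℕ) (q : MvPolynomial (Fin (n + 1)) k), q ∈ CohB1.polyGrading n k e → Prime q → ¬ J ≤ Ideal.span {q}) :
    GradedHilbLib.hilb J = 0 ∨ (GradedHilbLib.hilb J).natDegree + 2 ≤ n := by
  classical
  rw [or_iff_not_imp_left]
  intro h0
  obtain ⟨p, hp, hdeg⟩ := GradedHilbLib.exists_minimalPrime_degree_eq hJ h0
  have := hp.1.1
  have hph := SegreLib.minimalPrime_isHomogeneous (CohB1.polyGrading n k) hJ hp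
  have hp0 : GradedHilbLib.hilb p ≠ 0 := fun h => h0 (degree_eq_bot.mp (by rw [← hdeg, h, degree_zero]))
  have hpb : ¬ p ≤ (⊥ : Ideal (MvPolynomial (Fin (n + 1)) k)) := fun h => hbot (le_bot_iff.mp (hp.1.2.trans h))
  obtain ⟨e, a, ha, hap, ha0⟩ := GradedHilbLib.exists_homogeneous_notMem hph hpb
  have ha0' : a ≠ 0 := fun h => ha0 (h ▸ zero_mem _)
  -- an irreducible factor inside the prime
  have hau : ¬ IsUnit a := fun h => this.ne_top (Ideal.eq_top_of_isUnit_mem _ hap h)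
  obtain ⟨q, hqp, hqprime, s, hqs⟩ : ∃ q, q ∈ p ∧ Prime q ∧ q ∣ a := by
    obtain ⟨f, hf, u, hu⟩ := UniqueFactorizationMonoid.exists_prime_factors a ha0'
    have hmem : f.prod ∈ p := by
      have h1 : f.prod * u ∈ p := hu ▸ hap
      exact (this.mem_or_mem h1).resolve_right fun h => this.ne_top (Ideal.eq_top_of_isUnit_mem _ h u.isUnit)
    obtain ⟨q, hq, hqp⟩ := this.multiset_prod_mem_iff_exists_mem f |>.mp hmem
    exact ⟨q, hqp, hf q hq, (Multiset.dvd_prod hq).trans ⟨u, hu.symm⟩⟩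
  have hs : s ≠ 0 := fun h => ha0' (by rw [hqs, h, mul_zero])
  obtain ⟨e', hqe⟩ := HomogFactorLib.exists_isHomogeneous_of_mul hqprime.ne_zero hs (hqs ▸ ha)
  have hqe' : q ∈ CohB1.polyGrading n k e' := hqe
  haveI : (Ideal.span {q}).IsPrime := (Ideal.span_singleton_prime hqprime.ne_zero).mpr hqprime
  have hqh : (Ideal.span {q}).IsHomogeneous (CohB1.polyGrading n k) :=
    Ideal.homogeneous_span _ _ fun y hy => ⟨e', Set.mem_singleton_iff.1 hy ▸ hqe'⟩
  have hlt : Ideal.span {q} < p :=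
    lt_of_le_of_ne ((Ideal.span_singleton_le_iff_mem _).2 hqp) fun h => hfac e' q hqe' hqprime (h ▸ hp.1.2)
  have hq0 : GradedHilbLib.hilb (Ideal.span {q}) ≠ 0 := by
    intro h
    have h1 := GradedHilbLib.degree_hilb_mono hqh hph hlt.le
    rw [h, degree_zero, le_bot_iff, degree_eq_bot] at h1
    exact hp0 h1
  have hbh : (⊥ : Ideal (MvPolynomial (Fin (n + 1)) k)).IsHomogeneous (CohB1.polyGrading n k) :=
    Ideal.IsHomogeneous.bot _
  have h2 := GradedHilbLib.degree_hilb_lt hqh hph hlt hq0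
  have hb0 : GradedHilbLib.hilb (⊥ : Ideal (MvPolynomial (Fin (n + 1)) k)) ≠ 0 := by
    rw [GradedHilbLib.hilb_bot]
    intro h
    have := congrArg (fun P : ℚ[X] => P.eval ((0 : ℕ) : ℚ)) h
    simp only [eval_zero] at this
    rw [preHilbertPoly_eq_choose_sub_add ℚ n le_rfl] at this
    simp at this
  have h3 := GradedHilbLib.degree_hilb_lt (p := (⊥ : Ideal (MvPolynomial (Fin (n + 1)) k))) hbh hqh
    (bot_lt_iff_ne_bot.mpr fun h => hqprime.ne_zero (Ideal.span_singleton_eq_bot.mp h)) hb0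
  have h4 : (GradedHilbLib.hilb (⊥ : Ideal (MvPolynomial (Fin (n + 1)) k))).natDegree = n := by
    rw [GradedHilbLib.hilb_bot, natDegree_preHilbertPoly]
  rw [hdeg, degree_eq_natDegree h0, degree_eq_natDegree hq0] at h2
  rw [degree_eq_natDegree hb0, degree_eq_natDegree hq0, h4] at h3
  norm_cast at h2 h3
  omega

/-- multiplication by a form identifies the pieces of a colon ideal -/
theorem finrank_colon {J : Ideal (MvPolynomial (Fin (n + 1)) k)} {g : MvPolynomial (Fin (n + 1)) k} {e : ℕ}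
    (hg : g ∈ CohB1.polyGrading n k e) (hg0 : g ≠ 0) (hdvd : J ≤ Ideal.span {g}) (s : ℕ) :
    Module.finrank k ↥(Submodule.restrictScalars k (Submodule.colon J {g}) ⊓ CohB1.polyGrading n k s) =
      Module.finrank k ↥(Submodule.restrictScalars k J ⊓ CohB1.polyGrading n k (s + e)) := by
  classical
  have hmul : ∀ y : MvPolynomial (Fin (n + 1)) k, y ∈ Submodule.colon J {g} ↔ y * g ∈ J := fun y =>
    Submodule.mem_colon_singleton
  let φ : ↥(Submodule.restrictScalars k (Submodule.colon J {g}) ⊓ CohB1.polyGrading n k s) →ₗ[k]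
      ↥(Submodule.restrictScalars k J ⊓ CohB1.polyGrading n k (s + e)) :=
    { toFun := fun y => ⟨(y : MvPolynomial (Fin (n + 1)) k) * g, (hmul _).mp y.2.1, SetLike.mul_mem_graded y.2.2 hg⟩
      map_add' := fun a b => Subtype.ext (add_mul _ _ _)
      map_smul' := fun c a => Subtype.ext (smul_mul_assoc _ _ _) }
  refine (LinearEquiv.ofBijective φ ⟨fun a b h => Subtype.ext (mul_right_cancel₀ hg0 (congrArg Subtype.val h)),
    fun z => ?_⟩).finrank_eq
  obtain ⟨y, hy⟩ := Ideal.mem_span_singleton'.mp (hdvd z.2.1)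
  have hy' : (DirectSum.decompose (CohB1.polyGrading n k) y s : MvPolynomial (Fin (n + 1)) k) * g =
      (z : MvPolynomial (Fin (n + 1)) k) := by
    rw [← DirectSum.coe_decompose_mul_add_of_right_mem (CohB1.polyGrading n k) hg, hy,
      DirectSum.decompose_of_mem_same _ z.2.2]
  exact ⟨⟨_, (hmul _).mpr (hy' ▸ z.2.1), SetLike.coe_mem _⟩, Subtype.ext hy'⟩

theorem exists_hypersurface (hn : 1 ≤ n) {d : ℕ} {J : Ideal (MvPolynomial (Fin (n + 1)) k)}
    (hJ : J.IsHomogeneous (CohB1.polyGrading n k)) {N : ℕ}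
    (h : ∀ t, N ≤ t → (Module.finrank k ↥(Submodule.restrictScalars k J ⊓ CohB1.polyGrading n k t) : ℚ) =
      (cpoly ((n : ℤ) - d) n).eval (t : ℚ)) :
    ∃ g : CohB1.polyGrading n k d, g ≠ 0 ∧ ∃ N', ∀ t, N' ≤ t →
      Submodule.restrictScalars k J ⊓ CohB1.polyGrading n k t =
        Submodule.restrictScalars k (Ideal.span {(g : MvPolynomial (Fin (n + 1)) k)}) ⊓
          CohB1.polyGrading n k t := by
  classical
  have hbot : J ≠ ⊥ := by
    rintro rfl
    have h1 := h (N + d) (by omega)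
    rw [Submodule.restrictScalars_bot, bot_inf_eq, finrank_bot] at h1
    have h2 := cpoly_eval ((n : ℤ) - d) ((N + d : ℕ) : ℤ) n
    rw [Int.cast_natCast] at h2
    rw [h2, show ((N + d : ℕ) : ℤ) + ((n : ℤ) - d) = ((N + n : ℕ) : ℤ) by push_cast; ring,
      Ring.choose_natCast, Int.cast_natCast] at h1
    have hpos := Nat.choose_pos (show n ≤ N + n by omega)
    norm_cast at h1
    omega
  obtain ⟨e₀, a₀, ha₀, ha₀J, ha₀0⟩ := GradedHilbLib.exists_homogeneous_notMem (p := ⊥) hJ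
    (fun h => hbot (le_bot_iff.mp h))
  let P : ℕ → Prop := fun e => ∃ g ∈ CohB1.polyGrading n k e, g ≠ 0 ∧ J ≤ Ideal.span {g}
  have hP0 : P 0 := ⟨1, SetLike.GradedOne.one_mem, one_ne_zero, by rw [Ideal.span_singleton_one]; exact le_top⟩
  have hPle : ∀ e, P e → e ≤ e₀ := by
    rintro e ⟨g, hg, hg0, hle⟩
    obtain ⟨y, hy⟩ := Ideal.mem_span_singleton'.mp (hle ha₀J)
    by_contra hlt
    apply ha₀0
    rw [Ideal.mem_bot, ← DirectSum.decompose_of_mem_same (CohB1.polyGrading n k) ha₀, ← hy]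
    exact DirectSum.coe_decompose_mul_of_right_mem_of_not_le _ hg hlt
  obtain ⟨e, hPe, hmax⟩ : ∃ e, P e ∧ ∀ e', P e' → e' ≤ e :=
    ⟨Nat.findGreatest P e₀, Nat.findGreatest_spec (Nat.zero_le _) hP0,
      fun e' he' => Nat.le_findGreatest (hPle e' he') he'⟩
  obtain ⟨g, hg, hg0, hle⟩ := hPe
  let J' := Submodule.colon J {g}
  have hJ' : J'.IsHomogeneous (CohB1.polyGrading n k) := GradedHilbLib.colon_isHomogeneous hJ hg
  have hJ'bot : J' ≠ ⊥ := by
    intro h0
    obtain ⟨y, hy⟩ := Ideal.mem_span_singleton'.mp (hle ha₀J)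
    have : y ∈ J' := Submodule.mem_colon_singleton.mpr (by rw [smul_eq_mul, hy]; exact ha₀J)
    rw [h0, Ideal.mem_bot] at this
    exact ha₀0 (by rw [← hy, this, zero_mul]; exact zero_mem _)
  have hfac : ∀ (e' : ℕ) (q : MvPolynomial (Fin (n + 1)) k), q ∈ CohB1.polyGrading n k e' → Prime q →
      ¬ J' ≤ Ideal.span {q} := by
    intro e' q hq hqp hle'
    have h1 : P (e' + e) := by
      refine ⟨q * g, SetLike.mul_mem_graded hq hg, mul_ne_zero hqp.ne_zero hg0, fun x hx => ?_⟩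
      obtain ⟨y, rfl⟩ := Ideal.mem_span_singleton'.mp (hle hx)
      obtain ⟨z, rfl⟩ := Ideal.mem_span_singleton'.mp (hle' (Submodule.mem_colon_singleton.mpr hx))
      exact Ideal.mem_span_singleton'.mpr ⟨z, (mul_assoc z q g).symm⟩
    have h2 := hmax _ h1
    have he' : e' = 0 := by omega
    subst he'
    obtain ⟨c, hc⟩ := GradedHilbLib.scalars q hq
    refine hqp.not_unit (hc ▸ (IsUnit.mk0 c fun h => hqp.ne_zero (by rw [← hc, h, map_zero])).map _)
  have hP' : ∀ s, N ≤ s → (Module.finrank k ↥(Submodule.restrictScalars k J' ⊓ CohB1.polyGrading n k s) : ℚ) =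
      (cpoly ((n : ℤ) + ((e : ℤ) - d)) n).eval (s : ℚ) := by
    intro s hs
    have h2 := cpoly_eval ((n : ℤ) - d) ((s + e : ℕ) : ℤ) n
    have h3 := cpoly_eval ((n : ℤ) + ((e : ℤ) - d)) (s : ℤ) n
    rw [Int.cast_natCast] at h2 h3
    rw [finrank_colon hg hg0 hle, h _ (by omega), h2, h3]
    congr 2
    push_cast; ring
  have hhilb := GradedHilbLib.eq_hilb (isHP_of_piece hP')
  rw [cpoly_shift] at hhilb
  have hed : e = d := by
    by_contra hne
    obtain ⟨n', rfl⟩ : ∃ n', n = n' + 1 := ⟨n - 1, by omega⟩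
    have hc : ((-((e : ℤ) - d) : ℤ) : ℚ) ≠ 0 := by exact_mod_cast (show (-((e : ℤ) - d)) ≠ 0 by omega)
    have hd := GradedHilbLib.natDegree_sub_comp (P := cpoly ((n' + 1 : ℕ) : ℤ) (n' + 1)) (natDegree_cpoly_self _) hc
    have hco := GradedHilbLib.coeff_sub_comp (P := cpoly ((n' + 1 : ℕ) : ℤ) (n' + 1)) (natDegree_cpoly_self _)
      ((-((e : ℤ) - d) : ℤ) : ℚ)
    rcases hilb_degree_le_of_no_common_factor hJ' hJ'bot hfac with h0 | h0
    · rw [← hhilb] at h0
      rw [h0, coeff_zero] at hco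
      have hlc : (cpoly ((n' + 1 : ℕ) : ℤ) (n' + 1)).leadingCoeff ≠ 0 := leadingCoeff_ne_zero.2 fun h => by
        have := natDegree_cpoly_self (n' + 1)
        rw [h, natDegree_zero] at this
        omega
      exact (mul_ne_zero (mul_ne_zero hc (by positivity)) hlc) hco.symm
    · rw [← hhilb, hd] at h0
      omega
  subst hed
  refine ⟨⟨g, hg⟩, fun h0 => hg0 (congrArg Subtype.val h0), N + e, fun t ht => ?_⟩
  refine Submodule.eq_of_le_of_finrank_eq (fun x hx => ⟨hle hx.1, hx.2⟩) ?_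
  have h1 := h t (by omega)
  have h2 : Module.finrank k ↥(Submodule.restrictScalars k (Ideal.span {g}) ⊓ CohB1.polyGrading n k t) =
      Module.finrank k ↥(CohB1.polyGrading n k (t - e)) := by
    have h3 := finrank_colon (J := Ideal.span {g}) hg hg0 le_rfl (t - e)
    rw [Nat.sub_add_cancel (show e ≤ t by omega)] at h3
    rw [← h3, show Submodule.colon (Ideal.span {g}) {g} = ⊤ from eq_top_iff.mpr fun y _ =>
      Submodule.mem_colon_singleton.mpr (Ideal.mul_mem_left _ _ (Ideal.mem_span_singleton_self g)),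
      Submodule.restrictScalars_top, top_inf_eq]
  have h4 := cpoly_eval ((n : ℤ) - e) (t : ℤ) n
  rw [Int.cast_natCast] at h4
  rw [h4, show (t : ℤ) + ((n : ℤ) - e) = ((t - e + n : ℕ) : ℤ) by push_cast [Nat.cast_sub (show e ≤ t by omega)]; ring,
    Ring.choose_natCast, Int.cast_natCast] at h1
  rw [h2, finrank_piece]
  exact_mod_cast h1

end ProjHilbLib

end
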