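import Groth.Agent.GradedHilbLib.LinearSections
import Groth.Agent.ProjPtsLib.Basic
import Mathlib

/-!
# Linear spaces by their Hilbert function
-/

set_option autoImplicit false
universe u

open MvPolynomial Filter

noncomputable section

namespace ProjHilbLib

variable {k : Type u} [Field k] {n m : ℕ}

theorem finrank_piece (m t : ℕ) :
    Module.finrank k ↥(CohB1.polyGrading m k t) = (t + m).choose m := by
  refine (Groth.Agent.ProjPtsLib.finrank_homogeneous (k := k) (r := m + 1) t).trans ?_
  rw [show m + 1 + t - 1 = t + m by omega]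
  exact (Nat.choose_symm_add (a := t) (b := m))

/-- the polynomial `t ↦ C(t + c, m)` -/
def cpoly (c : ℤ) (m : ℕ) : Polynomial ℚ :=
  Polynomial.C ((m.factorial : ℚ)⁻¹) * (descPochhammer ℚ m).comp (Polynomial.X + Polynomial.C (c : ℚ))

theorem cpoly_eval (c t : ℤ) (m : ℕ) :
    (cpoly c m).eval (t : ℚ) = ((Ring.choose (t + c) m : ℤ) : ℚ) := by
  have h : ((Ring.choose (t + c) m : ℤ) : ℚ) = Ring.choose ((t + c : ℤ) : ℚ) m :=
    Ring.map_choose (Int.castRingHom ℚ) (t + c) m
  rw [h, Ring.choose_eq_smul, cpoly, Polynomial.eval_mul, Polynomial.eval_C, Polynomial.eval_comp,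
    Polynomial.eval_add, Polynomial.eval_X, Polynomial.eval_C, smul_eq_mul, ← Polynomial.aeval_eq_smeval,
    ← descPochhammer_map (algebraMap ℤ ℚ), Polynomial.eval_map, Polynomial.aeval_def]
  push_cast
  rfl

theorem cpoly_eval_nat (m t : ℕ) : (cpoly m m).eval (t : ℚ) = ((t + m).choose m : ℚ) := by
  have h := cpoly_eval (m : ℤ) (t : ℤ) m
  rw [Int.cast_natCast] at h
  rw [h, ← Nat.cast_add, Ring.choose_natCast, Int.cast_natCast]

theorem natDegree_cpoly_self (m : ℕ) : (cpoly m m).natDegree = m := by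
  rw [show cpoly m m = Polynomial.preHilbertPoly ℚ m 0 from Polynomial.eq_of_infinite_eval_eq _ _
    (Set.Infinite.mono (fun x hx => by
      obtain ⟨t, -, rfl⟩ := hx
      change (cpoly m m).eval (t : ℚ) = (Polynomial.preHilbertPoly ℚ m 0).eval (t : ℚ)
      rw [cpoly_eval_nat, Polynomial.preHilbertPoly_eq_choose_sub_add ℚ m (Nat.zero_le t), Nat.sub_zero])
      (Set.infinite_univ.image (f := fun t : ℕ => (t : ℚ)) Nat.cast_injective.injOn))]
  exact Polynomial.natDegree_preHilbertPoly ℚ m 0

/-- `k[T₀..T_m] → k[X₀..X_n]` sending the variables to linear forms -/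
def lmap (l : Fin (m + 1) → MvPolynomial (Fin (n + 1)) k) :
    MvPolynomial (Fin (m + 1)) k →ₐ[k] MvPolynomial (Fin (n + 1)) k :=
  MvPolynomial.aeval l

theorem aeval_mem_piece {σ τ : Type} [Fintype σ] {v : σ → MvPolynomial τ k} (hv : ∀ i, (v i).IsHomogeneous 1)
    {t : ℕ} {p : MvPolynomial σ k} (hp : p.IsHomogeneous t) :
    (MvPolynomial.aeval v p).IsHomogeneous t := by
  simpa using hp.aeval v hv

section Span

variable {c : ℕ} (ℓ : Fin c → MvPolynomial (Fin (n + 1)) k)

theorem exists_proj (hℓ : ∀ j, ℓ j ∈ CohB1.polyGrading n k 1) (hli : LinearIndependent k ℓ)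
    (hcm : c + m = n) :
    ∃ π : MvPolynomial (Fin (n + 1)) k →ₐ[k] MvPolynomial (Fin (m + 1)) k,
      (∀ f, f ∈ Ideal.span (Set.range ℓ) ↔ π f = 0) ∧ Function.Surjective π ∧
      ∀ t, ∃ g : CohB1.polyGrading n k t →ₗ[k] CohB1.polyGrading m k t,
        Function.Surjective g ∧ ∀ x, (g x : MvPolynomial (Fin (m + 1)) k) = π x := by
  classical
  let ℓ' : Fin c → CohB1.polyGrading n k 1 := fun j => ⟨ℓ j, hℓ j⟩
  have hli' : LinearIndependent k ℓ' := LinearIndependent.of_comp (CohB1.polyGrading n k 1).subtype hli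
  obtain ⟨W, hW⟩ := Submodule.exists_isCompl (Submodule.span k (Set.range ℓ'))
  have hdim : Module.finrank k W = m + 1 := by
    have h1 := Submodule.finrank_add_eq_of_isCompl hW
    rw [finrank_span_eq_card hli', Fintype.card_fin, finrank_piece, Nat.add_comm 1 n, Nat.choose_succ_self_right] at h1
    omega
  haveI : Module.Free k W := Module.Free.of_divisionRing k W
  haveI : Module.Finite k W := Module.finite_of_finrank_eq_succ hdim
  let b := (Module.finBasisOfFinrankEq k W hdim)
  let ψ : CohB1.polyGrading n k 1 →ₗ[k] MvPolynomial (Fin (m + 1)) k :=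
    LinearMap.ofIsCompl hW 0 (b.constr k fun i => X i)
  let π : MvPolynomial (Fin (n + 1)) k →ₐ[k] MvPolynomial (Fin (m + 1)) k :=
    MvPolynomial.aeval fun i => ψ ⟨X i, isHomogeneous_X k i⟩
  have hπ1 : ∀ x : CohB1.polyGrading n k 1, π x = ψ x := by
    have hspan : ∀ x : CohB1.polyGrading n k 1,
        x = ∑ i, coeff (Finsupp.single i 1) (x : MvPolynomial (Fin (n + 1)) k) •
          (⟨X i, isHomogeneous_X k i⟩ : CohB1.polyGrading n k 1) := by
      intro x
      refine Subtype.ext ?_
      rw [Submodule.coe_sum]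
      simp only [SetLike.val_smul]
      ext d
      rw [coeff_sum]
      simp only [coeff_smul, coeff_X', smul_eq_mul, mul_ite, mul_one, mul_zero]
      by_cases hd : ∃ i, Finsupp.single i 1 = d
      · obtain ⟨i, rfl⟩ := hd
        rw [Finset.sum_eq_single i]
        · rw [if_pos rfl]
        · exact fun j _ hj => if_neg fun h => hj (Finsupp.single_left_injective one_ne_zero h)
        · exact fun h => absurd (Finset.mem_univ i) h
      · rw [Finset.sum_eq_zero fun i _ => if_neg fun h => hd ⟨i, h⟩]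
        refine x.2.coeff_eq_zero fun h => hd ?_
        obtain ⟨i, hi⟩ : d ∈ Set.range (fun a : Fin (n + 1) => Finsupp.single a 1) := by
          rw [Finsupp.range_single_one]; exact h
        exact ⟨i, hi⟩
    intro x
    rw [hspan x, map_sum, Submodule.coe_sum, map_sum]
    refine Finset.sum_congr rfl fun i _ => ?_
    rw [SetLike.val_smul, map_smul, map_smul]
    exact congrArg _ (MvPolynomial.aeval_X _ i)
  let ι : MvPolynomial (Fin (m + 1)) k →ₐ[k] MvPolynomial (Fin (n + 1)) k :=
    MvPolynomial.aeval fun i => ((b i : W) : MvPolynomial (Fin (n + 1)) k)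
  have hψℓ : ∀ j, ψ (ℓ' j) = 0 := fun j =>
    LinearMap.ofIsCompl_left_apply hW ⟨ℓ' j, Submodule.subset_span ⟨j, rfl⟩⟩
  have hψb : ∀ i, ψ (b i : CohB1.polyGrading n k 1) = X i := fun i =>
    (LinearMap.ofIsCompl_right_apply hW (b i)).trans (b.constr_basis k _ i)
  have hπι : ∀ p, π (ι p) = p := by
    have : π.comp ι = AlgHom.id k _ := MvPolynomial.algHom_ext fun i => by
      simp only [AlgHom.comp_apply, AlgHom.id_apply, ι, aeval_X]
      exact (hπ1 (b i)).trans (hψb i)
    exact fun p => congrArg (fun f : MvPolynomial (Fin (m + 1)) k →ₐ[k] _ => f p) this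
  have hψX : ∀ x, (ψ x).IsHomogeneous 1 := by
    intro x
    have hW' : ∀ w : W, (b.constr k (fun i => X (R := k) i) w).IsHomogeneous 1 := fun w => by
      rw [Module.Basis.constr_apply_fintype]
      exact Submodule.sum_mem (homogeneousSubmodule (Fin (m + 1)) k 1) fun i _ =>
        Submodule.smul_mem _ _ (isHomogeneous_X k i)
    obtain ⟨y, hy, z, hz, rfl⟩ := Submodule.mem_sup.mp (hW.sup_eq_top ▸ Submodule.mem_top (x := x))
    have e : ψ (y + z) = b.constr k (fun i => X i) ⟨z, hz⟩ := by
      rw [map_add, LinearMap.ofIsCompl_left_apply hW ⟨y, hy⟩, LinearMap.ofIsCompl_right_apply hW ⟨z, hz⟩]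
      simp
    exact e ▸ hW' ⟨z, hz⟩
  -- the kernel
  let q := Ideal.Quotient.mkₐ k (Ideal.span (Set.range ℓ))
  have hmk : ∀ f, q (ι (π f)) = q f := by
    have hlin : ∀ x : CohB1.polyGrading n k 1, q (ι (ψ x)) = q x := by
      intro x
      have hmem : x ∈ Submodule.span k (Set.range ℓ') ⊔ W := by rw [hW.sup_eq_top]; trivial
      obtain ⟨y, hy, z, hz, rfl⟩ := Submodule.mem_sup.mp hmem
      rw [map_add, map_add, map_add, Submodule.coe_add, map_add]
      refine congr_arg₂ (· + ·) ?_ ?_
      · clear hmem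
        induction hy using Submodule.span_induction with
        | mem y hy =>
          obtain ⟨j, rfl⟩ := hy
          rw [hψℓ, map_zero, map_zero]
          exact ((Ideal.Quotient.eq_zero_iff_mem (I := Ideal.span (Set.range ℓ))).mpr (Ideal.subset_span (s := Set.range ℓ) (Set.mem_range_self j))).symm
        | zero => simp
        | add a b _ _ ha hb => rw [map_add, map_add, map_add, Submodule.coe_add, map_add, ha, hb]
        | smul a y _ hy => rw [map_smul, map_smul, map_smul, SetLike.val_smul, map_smul, hy]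
      · obtain ⟨w, rfl⟩ : ∃ w : W, (w : CohB1.polyGrading n k 1) = z := ⟨⟨z, hz⟩, rfl⟩
        rw [← b.sum_repr w, Submodule.coe_sum, map_sum, map_sum, map_sum, Submodule.coe_sum, map_sum]
        refine Finset.sum_congr rfl fun i _ => ?_
        rw [SetLike.val_smul, map_smul, map_smul, map_smul, SetLike.val_smul, map_smul, hψb]
        simp only [ι, aeval_X]
    have : (q.comp ι).comp π = q := MvPolynomial.algHom_ext fun i => by
      simp only [AlgHom.comp_apply, π, aeval_X]
      exact hlin ⟨X i, isHomogeneous_X k i⟩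
    exact fun f => congrArg (fun g : MvPolynomial (Fin (n + 1)) k →ₐ[k] _ => g f) this
  have hker : ∀ f, π f = 0 → f ∈ Ideal.span (Set.range ℓ) := fun f hf => by
    refine Ideal.Quotient.eq_zero_iff_mem.mp ?_
    have h1 := hmk f
    rw [hf, map_zero, map_zero] at h1
    exact h1.symm
  have hker' : ∀ f ∈ Ideal.span (Set.range ℓ), π f = 0 := by
    intro f hf
    have hle : Ideal.span (Set.range ℓ) ≤ RingHom.ker π :=
      Ideal.span_le.mpr (by rintro _ ⟨j, rfl⟩; exact (hπ1 (ℓ' j)).trans (hψℓ j))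
    exact hle hf
  refine ⟨π, fun f => ⟨hker' f, hker f⟩, fun p => ⟨ι p, hπι p⟩, fun t => ⟨LinearMap.codRestrict _
    (π.toLinearMap.comp (CohB1.polyGrading n k t).subtype) fun x => aeval_mem_piece (fun i => hψX _) x.2,
    fun p => ⟨⟨ι p, aeval_mem_piece (fun i => (b i : CohB1.polyGrading n k 1).2) p.2⟩, Subtype.ext (hπι p)⟩,
    fun _ => rfl⟩⟩

theorem hf_span_linear (hℓ : ∀ j, ℓ j ∈ CohB1.polyGrading n k 1) (hli : LinearIndependent k ℓ)
    (hcm : c + m = n) (t : ℕ) :
    GradedHilbLib.hf (Ideal.span (Set.range ℓ)) t = ((t + m).choose m : ℚ) := by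
  obtain ⟨π, hπ, -, hpieces⟩ := exists_proj ℓ hℓ hli hcm
  obtain ⟨g, hgs, hg⟩ := hpieces t
  have hk : Module.finrank k (LinearMap.ker g) = Module.finrank k
      ↥(Submodule.restrictScalars k (Ideal.span (Set.range ℓ)) ⊓ CohB1.polyGrading n k t) :=
    LinearEquiv.finrank_eq
      { toFun := fun x => ⟨(x.1 : MvPolynomial (Fin (n + 1)) k),
          (hπ _).mpr ((hg x.1).symm.trans (congrArg Subtype.val (LinearMap.mem_ker.mp x.2))), x.1.2⟩
        invFun := fun y => ⟨⟨y.1, y.2.2⟩, LinearMap.mem_ker.mpr (Subtype.ext ((hg _).trans ((hπ _).mp y.2.1)))⟩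
        map_add' := fun _ _ => rfl
        map_smul' := fun _ _ => rfl
        left_inv := fun _ => rfl
        right_inv := fun _ => rfl }
  have hr := g.finrank_range_add_finrank_ker
  rw [LinearMap.range_eq_top.mpr hgs, finrank_top, finrank_piece m t, hk] at hr
  rw [GradedHilbLib.hf, ← hr]
  push_cast
  ring

end Span

end ProjHilbLib

end
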