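import Groth.Agent.ProjHilbLib.Euler
import Groth.Agent.GrTildeLib.Gamma
import Groth.Agent.GrTildeLib.Sub
import Groth.Agent.GrTildeLib.Phi
import Groth.Agent.ProjClosedLib.Main
import Groth.Agent.IntMultLib.Cartier

/-!
# The saturated ideal of a closed subscheme of projective space
-/

set_option autoImplicit false
set_option backward.isDefEq.respectTransparency false
set_option backward.isDefEq.respectTransparency.types false
universe u

open CategoryTheory CategoryTheory.Limits AlgebraicGeometry TopologicalSpace Opposite TopCat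

noncomputable section

namespace ProjHilbLib

variable {k : Type u} [Field k] {n : ℕ}

variable (k n) in
/-- the variables -/
def varX (i : ULift.{u} (Fin (n + 1))) : MvPolynomial (Fin (n + 1)) k := MvPolynomial.X i.down

theorem varX_mem (i : ULift.{u} (Fin (n + 1))) : varX k n i ∈ CohB1.polyGrading n k 1 :=
  MvPolynomial.isHomogeneous_X k i.down

theorem cover_var (x : Proj (CohB1.polyGrading n k)) :
    ∃ i, x ∈ Proj.basicOpen (CohB1.polyGrading n k) (varX k n i) := by
  by_contra hne
  push Not at hne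
  refine x.not_irrelevant_le ((GrAlphaLib.irrelevant_le_span (CohB1.polyGrading n k)
    (fun i => (MvPolynomial.X i : MvPolynomial (Fin (n + 1)) k))
    (fun i => MvPolynomial.isHomogeneous_X k i) MvPolynomial.adjoin_range_X).trans (Ideal.span_le.mpr ?_))
  intro a ha
  have hmem : a ∈ Ideal.span (Set.range (MvPolynomial.X : Fin (n + 1) → MvPolynomial (Fin (n + 1)) k)) :=
    GradedHilbLib.piece_le_idealOfVars 1 one_pos ha
  refine (Ideal.span_le.mpr ?_) hmem
  rintro _ ⟨i, rfl⟩
  exact not_not.mp (hne ⟨i⟩)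

variable (k n) in
open scoped Classical in
/-- the set of variables -/
def vars : Finset (MvPolynomial (Fin (n + 1)) k) := Finset.univ.image (varX k n)

theorem vars_mem {g : MvPolynomial (Fin (n + 1)) k} (hg : g ∈ vars k n) : g ∈ CohB1.polyGrading n k 1 := by
  classical
  obtain ⟨i, -, rfl⟩ := Finset.mem_image.mp hg
  exact varX_mem i

theorem varX_mem_vars (i : ULift.{u} (Fin (n + 1))) : varX k n i ∈ vars k n := by
  classical
  exact Finset.mem_image_of_mem _ (Finset.mem_univ i)

variable (I : (Proj (CohB1.polyGrading n k)).IdealSheafData)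

/-- the saturated ideal -/
def satId : Ideal (MvPolynomial (Fin (n + 1)) k) :=
  ProjClosedLib.idealOf (CohB1.polyGrading n k) (vars k n) (fun _ => vars_mem) I.subschemeι

theorem satId_isHomogeneous : (satId I).IsHomogeneous (CohB1.polyGrading n k) :=
  ProjClosedLib.idealOf_isHomogeneous _ _ _ _

/-- the chart of a variable -/
def chartX (i : ULift.{u} (Fin (n + 1))) : (Proj (CohB1.polyGrading n k)).affineOpens :=
  ⟨Proj.basicOpen (CohB1.polyGrading n k) (varX k n i), Proj.isAffineOpen_basicOpen _ _ (varX_mem i) one_pos⟩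

theorem app_eq_zero_iff (i : ULift.{u} (Fin (n + 1))) (a : Γ(Proj (CohB1.polyGrading n k), (chartX i).1)) :
    I.subschemeι.app (chartX i).1 a = 0 ↔ a ∈ I.ideal (chartX i) := by
  rw [← I.ker_subschemeι_app (chartX i)]
  exact Iff.rfl

theorem mem_satId_iff {l : ℕ} {a : MvPolynomial (Fin (n + 1)) k} (ha : a ∈ CohB1.polyGrading n k l) :
    a ∈ satId I ↔ ∀ i, ProjClosedLib.fr (CohB1.polyGrading n k) (varX_mem i) ha ∈ I.ideal (chartX i) := by
  classical
  refine (ProjClosedLib.mem_idealOf_iff _ _ _ _ ha).trans ?_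
  refine ⟨fun h i => (app_eq_zero_iff I i _).mp (h _ (varX_mem_vars i)), fun h g hg => ?_⟩
  obtain ⟨i, -, rfl⟩ := Finset.mem_image.mp hg
  exact (app_eq_zero_iff I i _).mpr (h i)

theorem exists_pow_mul_mem (i : ULift.{u} (Fin (n + 1))) {l : ℕ} {a : MvPolynomial (Fin (n + 1)) k}
    (ha : a ∈ CohB1.polyGrading n k l)
    (h : ProjClosedLib.fr (CohB1.polyGrading n k) (varX_mem i) ha ∈ I.ideal (chartX i)) :
    ∃ N : ℕ, varX k n i ^ N * a ∈ satId I := by
  obtain ⟨N, hm, hv⟩ := ProjClosedLib.exists_pow_mul_van (CohB1.polyGrading n k) (vars k n) (fun _ => vars_mem)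
    I.subschemeι (varX_mem_vars i) ha ((app_eq_zero_iff I i _).mpr h)
  exact ⟨N, (ProjClosedLib.mem_idealOf_iff _ _ _ _ hm).mpr hv⟩

/-- the grading of the saturated ideal -/
abbrev satGr : ℕ → Submodule k (satId I) := GrTildeLib.subGr (CohB1.polyGrading n k) (satId I)

open scoped Classical in
instance satDecomposition : DirectSum.Decomposition (satGr I) :=
  GrTildeLib.subDecomposition (CohB1.polyGrading n k) (satId I) fun _ hm l => satId_isHomogeneous I l hm

theorem satGr_fr_mem {l : ℕ} (z : satGr I l) (i : ULift.{u} (Fin (n + 1))) :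
    ProjClosedLib.fr (CohB1.polyGrading n k) (varX_mem i) (show ((z : satId I) : MvPolynomial (Fin (n + 1)) k) ∈ _ from z.2)
      ∈ I.ideal (chartX i) :=
  (mem_satId_iff I z.2).mp (z : satId I).2 i

/-- the section of the ideal sheaf attached to a form -/
def secOf {l : ℕ} (z : satGr I l) (i : ULift.{u} (Fin (n + 1))) : Γ(ClSub.idealMod I, (chartX i).1) :=
  (IntMultLib.exists_section I (chartX i) (satGr_fr_mem I z i)).choose

theorem app_secOf {l : ℕ} (z : satGr I l) (i : ULift.{u} (Fin (n + 1))) :
    (ClSub.idealModι I).app (chartX i).1 (secOf I z i) =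
      ProjClosedLib.fr (CohB1.polyGrading n k) (varX_mem i)
        (show ((z : satId I) : MvPolynomial (Fin (n + 1)) k) ∈ _ from z.2) :=
  (IntMultLib.exists_section I (chartX i) (satGr_fr_mem I z i)).choose_spec

theorem app_res {U V : (Proj (CohB1.polyGrading n k)).Opens} (h : U ≤ V) (s : Γ(ClSub.idealMod I, V)) :
    (ClSub.idealModι I).app U (AmpleLib.res (ClSub.idealMod I) h s) =
      (Proj (CohB1.polyGrading n k)).presheaf.map (homOfLE h).op ((ClSub.idealModι I).app V s) :=
  QCohLib.app_map (ClSub.idealModι I) (homOfLE h) s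

/-- a form in the saturated ideal as a graded element -/
def mkGr {l : ℕ} (a : MvPolynomial (Fin (n + 1)) k) (ha : a ∈ CohB1.polyGrading n k l) (hI : a ∈ satId I) :
    satGr I l :=
  ⟨⟨a, hI⟩, ha⟩

theorem app_secOf_mkGr {l : ℕ} (a : MvPolynomial (Fin (n + 1)) k) (ha : a ∈ CohB1.polyGrading n k l)
    (hI : a ∈ satId I) (i : ULift.{u} (Fin (n + 1))) :
    (ClSub.idealModι I).app (chartX i).1 (secOf I (mkGr I a ha hI) i) =
      ProjClosedLib.fr (CohB1.polyGrading n k) (varX_mem i) ha :=
  app_secOf I (mkGr I a ha hI) i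

theorem fr_pow_mul {l : ℕ} {a : MvPolynomial (Fin (n + 1)) k} (ha : a ∈ CohB1.polyGrading n k l) (N : ℕ)
    (i : ULift.{u} (Fin (n + 1))) (h : varX k n i ^ N * a ∈ CohB1.polyGrading n k (N + l)) :
    ProjClosedLib.fr (CohB1.polyGrading n k) (varX_mem i) h =
      ProjClosedLib.fr (CohB1.polyGrading n k) (varX_mem i) ha := by
  have hgN : varX k n i ^ N ∈ CohB1.polyGrading n k N := by
    simpa using SetLike.pow_mem_graded N (varX_mem i)
  rw [ProjClosedLib.fr_mul _ (varX_mem i) hgN ha, ProjClosedLib.fr_one, one_mul]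

theorem pow_mul_mem_piece {l : ℕ} {a : MvPolynomial (Fin (n + 1)) k} (ha : a ∈ CohB1.polyGrading n k l) (N : ℕ)
    (i : ULift.{u} (Fin (n + 1))) : varX k n i ^ N * a ∈ CohB1.polyGrading n k (N + l) :=
  SetLike.mul_mem_graded (by simpa using SetLike.pow_mem_graded N (varX_mem i)) ha

/-- the comparison data -/
def satData : GrTildeLib.GrData (fun i => varX_mem i) (ClSub.idealMod I) (satGr I) where
  ν l := AddMonoidHom.mk' (fun z i => secOf I z i) fun z w => funext fun i => by
    refine IntMultLib.idealModι_app_injective I _ ?_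
    rw [Pi.add_apply, map_add, app_secOf, app_secOf, app_secOf, ← ProjClosedLib.fr_add]
  compat l z i j V hi hj := by
    refine IntMultLib.idealModι_app_injective I V ?_
    rw [app_res]
    refine (congrArg _ (app_secOf I z i)).trans ?_
    refine Eq.trans ?_ (IntMultLib.idealModι_smul I V _ _).symm
    rw [app_res]
    refine Eq.trans ?_ (congrArg (fun w => _ * (Proj (CohB1.polyGrading n k)).presheaf.map (homOfLE hj).op w)
      (app_secOf I z j).symm)
    exact ProjClosedLib.fr_change (CohB1.polyGrading n k) (varX_mem j) (varX_mem i) z.2 hi hj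
  smul l m a ha z h i := by
    refine IntMultLib.idealModι_app_injective I _ ?_
    refine (app_secOf I _ i).trans ?_
    refine Eq.trans ?_ (IntMultLib.idealModι_smul I _ _ _).symm
    refine Eq.trans ?_ (congrArg (fun w => ProjClosedLib.fr (CohB1.polyGrading n k) (varX_mem i) ha * w)
      (app_secOf I z i).symm)
    exact ProjClosedLib.fr_mul (CohB1.polyGrading n k) (varX_mem i) ha z.2

theorem app_mem_ideal {X : Scheme.{u}} (J : X.IdealSheafData) (U : X.affineOpens) (w : Γ(ClSub.idealMod J, U.1)) :
    (show Γ(X, U.1) from (ClSub.idealModι J).app U.1 w) ∈ J.ideal U := by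
  rw [← IntMultLib.toSubscheme_app_eq_zero_iff J U]
  exact congrArg (fun φ : ClSub.idealMod J ⟶ ClSub.quotMod J => φ.app U.1 w) (kernel.condition (ClSub.toSubscheme J))

/-- the ideal sheaf is the sheaf of the saturated ideal -/
theorem nonempty_idealMod_iso : Nonempty (GrTilde.tilde (CohB1.polyGrading n k) (satGr I) 0 ≅ ClSub.idealMod I) := by
  haveI : IsLocallyNoetherian (Proj (CohB1.polyGrading n k)) := ProjCohTwLib.isLocallyNoetherian _
  haveI : Coh.IsQCoh (ClSub.idealMod I) := (QCohLib.isCoh_kernel (ClSub.toSubscheme I) (DevissLib.isCoh_structureModule _) (CurvLib.isCoh_quotMod I).1).1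
  refine GrTildeLib.exists_iso (satData I) cover_var (fun l z i h0 => ?_) fun i => ?_
  · have h1 : ProjClosedLib.fr (CohB1.polyGrading n k) (varX_mem i)
        (show ((z : satId I) : MvPolynomial (Fin (n + 1)) k) ∈ _ from z.2) = 0 := by
      rw [← app_secOf I z i, show secOf I z i = 0 from h0, map_zero]
    refine ⟨0, ?_⟩
    rw [pow_zero, one_smul]
    refine Subtype.ext ?_
    change ((z : satId I) : MvPolynomial (Fin (n + 1)) k) = 0
    have hinj : ∀ (a : MvPolynomial (Fin (n + 1)) k) (ha : a ∈ CohB1.polyGrading n k l),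
        ProjClosedLib.fr (CohB1.polyGrading n k) (varX_mem i) ha = 0 → a = 0 := by
      intro a ha h
      have hb := (map_eq_zero_iff _ (ConcreteCategory.bijective_of_isIso
        (Proj.basicOpenIsoAway (CohB1.polyGrading n k) _ (varX_mem i) one_pos).hom).1).mp h
      obtain ⟨N, hN⟩ := (ProjClosedLib.away_mk_eq_zero (varX_mem i) _).mp hb
      exact (mul_eq_zero.mp hN).resolve_left (pow_ne_zero N (MvPolynomial.X_ne_zero _))
    exact hinj _ z.2 h1
  · refine eq_top_iff.mpr fun w _ => ?_
    obtain ⟨l, a, ha, hw⟩ := ProjClosedLib.fr_surjective (CohB1.polyGrading n k) (varX_mem i)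
      ((ClSub.idealModι I).app (chartX i).1 w)
    have hmem : ProjClosedLib.fr (CohB1.polyGrading n k) (varX_mem i) ha ∈ I.ideal (chartX i) := by
      rw [hw]
      exact app_mem_ideal I (chartX i) w
    obtain ⟨N, hN⟩ := exists_pow_mul_mem I i ha hmem
    refine Submodule.subset_span ⟨N + l, mkGr I _ (pow_mul_mem_piece ha N i) hN, ?_⟩
    refine IntMultLib.idealModι_app_injective I (chartX i).1 ?_
    refine (app_secOf_mkGr I _ (pow_mul_mem_piece ha N i) hN i).trans ?_
    refine (fr_pow_mul ha N i _).trans ?_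
    exact hw

end ProjHilbLib

end
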